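import Cfsg.Agent.H934.MF.Diag
import Cfsg.Agent.H193.SsConj
import Cfsg.Agent.H162.GaussReg

/-!
# Matrices of degree three with irreducible characteristic polynomial (S2443, S4171)

* `M3 K` : every product of a lower and an upper unitriangular matrix is a product of two such matrices;
* `exists_gc` : same irreducible characteristic polynomial implies conjugate;
* `exists_ext` : diagonalization over an extension, the eigenvalues are not in `K`.
-/

set_option autoImplicit false

namespace Cfsg.Agent.H144.OreF4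

open Matrix Polynomial Cfsg.Agent.H162.GaussSL Cfsg.Agent.H162.GaussReg

universe u

/-- the product lemma in degree three -/
def M3 (K : Type u) [Field K] : Prop :=
  ∀ L ∈ LT 3 K, ∀ U ∈ UT 3 K, ∃ X Y : SpecialLinearGroup (Fin 3) K, L * U = X * Y ∧
    Irreducible X.1.charpoly ∧ Irreducible Y.1.charpoly ∧
    (Y.1.charpoly = X.1.charpoly ∨ Y.1.charpoly = (X⁻¹).1.charpoly)

theorem exists_gc {K : Type u} [Field K] {n : ℕ} {X Y : SpecialLinearGroup (Fin n) K}
    (hX : Irreducible X.1.charpoly) (h : Y.1.charpoly = X.1.charpoly) : ∃ g : GL (Fin n) K, gc g X = Y := by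
  have h1 := Cfsg.Agent.H193.SsConj.isConj_of_charpoly (F := K) (X : GL (Fin n) K) (Y : GL (Fin n) K)
    X.1.charpoly hX.squarefree (aeval_self_charpoly X.1) (by rw [← h]; exact aeval_self_charpoly Y.1) h.symm
  obtain ⟨g, hg⟩ := isConj_iff.1 h1
  refine ⟨g, Subtype.ext ?_⟩
  exact congrArg (fun z : GL (Fin n) K => z.1) hg

theorem exists_ext {K : Type u} [Field K] [Finite K] {X : SpecialLinearGroup (Fin 3) K}
    (hX : Irreducible X.1.charpoly) : ∃ (K' : Type u) (_ : Field K') (_ : Finite K') (f : K →+* K')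
      (lam : Fin 3 → K') (g : GL (Fin 3) K'), (∀ a c, lam a ≠ f c) ∧
      (X : Matrix (Fin 3) (Fin 3) K).map f = (g : Matrix (Fin 3) (Fin 3) K') * diagonal lam *
        ((g⁻¹ : GL (Fin 3) K') : Matrix (Fin 3) (Fin 3) K') := by
  have : Fintype K := Fintype.ofFinite K
  have hf : Fact (Irreducible X.1.charpoly) := ⟨hX⟩
  have hmon := X.1.charpoly_monic
  have hfd : Module.Finite K (AdjoinRoot X.1.charpoly) := hmon.finite_adjoinRoot
  have hfin : Finite (AdjoinRoot X.1.charpoly) := Module.finite_of_finite K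
  have hmin : minpoly K (AdjoinRoot.root X.1.charpoly) = X.1.charpoly := by
    rw [AdjoinRoot.minpoly_root hX.ne_zero, hmon.leadingCoeff, inv_one, C_1, mul_one]
  have hdeg : (minpoly K (AdjoinRoot.root X.1.charpoly)).natDegree = 3 := by
    rw [hmin, charpoly_natDegree_eq_dim, Fintype.card_fin]
  obtain ⟨g, hg⟩ := Cfsg.Agent.H934.MF.diag_irr hdeg X.1 hmin.symm
  refine ⟨AdjoinRoot X.1.charpoly, inferInstance, hfin, algebraMap K _, _, g, fun a c h => ?_, hg⟩
  have h1 := Cfsg.Agent.H934.MF.root_pow (K := K) (minpoly.aeval K (AdjoinRoot.root X.1.charpoly)) (a : ℕ)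
  rw [h, hmin, aeval_algebraMap_apply, map_eq_zero_iff _ (algebraMap K (AdjoinRoot X.1.charpoly)).injective,
    coe_aeval_eq_eval] at h1
  have h2 := degree_eq_one_of_irreducible_of_root hX h1
  rw [degree_eq_natDegree hX.ne_zero, charpoly_natDegree_eq_dim, Fintype.card_fin] at h2
  exact absurd h2 (by decide)

end Cfsg.Agent.H144.OreF4
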