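import Cfsg.Agent.H144.OreF4.Row

/-!
# The groups `F₄(q)`, `q ≥ 4`, for the Ore conjecture (S2443) and products of four involutions (S4171)

`J` = the two long nodes `3`, `2`; `s₀ = h_0(t)`, `t² ≠ 1`, for the short node `0`; `n_0` inverts `s₀` and commutes with
the block.

* `allC_F4'`, `inv4_F4'` : the rows from the product lemma `M3 K`.
-/

set_option autoImplicit false
set_option linter.unusedSectionVars false

namespace Cfsg.Agent.H144.OreF4

open Cfsg.Lie Cfsg.Agent.ChevalleyStructure Cfsg.Agent.ChevalleyStructure.RootVec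
  Cfsg.Agent.ChevalleyStructure.CoxeterGeomTypes Cfsg.Agent.Nodes.RGDChev Cfsg.Agent.KFacts.RgdChevCoord
open Cfsg.Agent.H162.GaussExc Cfsg.Agent.H162.GaussExcMain Cfsg.Agent.TitsThree.KExcRT Cfsg.Agent.H777.Ore
open Matrix (SpecialLinearGroup)

universe u

/-- the type -/
theorem hF : IsType chevF4 4 CoxeterMatrix.F₄ := Cfsg.Agent.Nodes.KindF.isType

/-- the block of the long nodes -/
def rL : Fin 3 → Fin 3 → ℕ := ![![0, 24, 26], ![23, 0, 25], ![21, 22, 0]]

/-- the long nodes -/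
def jL : Fin 2 → Fin 4 := ![3, 2]

theorem rtL : RTa chevF4 rL ∧ (RTb chevF4 rL fun _ _ => 1) ∧ RTc chevF4 rL ∧
    ∀ i j, i ≠ j → rL j i = chevF4.neg (rL i j) := by decide +kernel

theorem chkL' : ChkB chevF4 4 [3, 2] ![0, 2, 3, 2] wF 1 rL := by decide +kernel

theorem chkL'' : ChkSub chevF4 4 [3, 2] 1 rL := by decide +kernel

theorem simpL : (∀ a : Fin 2, rL a.castSucc a.succ = chevF4.simple (jL a)) ∧
    ∀ a : Fin 2, rL a.succ a.castSucc = chevF4.neg (chevF4.simple (jL a)) := by decide +kernel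

theorem tabL : Tab3 chevF4 4 [3, 2] ![0, 2, 3, 2] wF rL jL where
  tb := chkL'.tab chkL''
  simp := ⟨simpL.1, simpL.2⟩
  neg := rtL.2.2.2

/-- the values of the coroot of the node `0` on the block -/
theorem tab0 : ∀ a b : Fin 3, a ≠ b → chevF4.cartan (0 : Fin 4) (rL a b) = 0 := by decide +kernel

/-- the weights outside the block -/
def Chk1 : Prop := ∀ q < chevF4.nroots, (∃ k : Fin 4, k ∉ ([3, 2] : List (Fin 4)) ∧ vec chevF4 4 q k ≠ 0) →
  Six (chevF4.cartan (jL 0) q) (chevF4.cartan (jL 1) q) ∨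
    (chevF4.cartan (jL 0) q = 0 ∧ chevF4.cartan (jL 1) q = 0 ∧
      (chevF4.cartan (0 : Fin 4) q = 1 ∨ chevF4.cartan (0 : Fin 4) q = -1 ∨
        chevF4.cartan (0 : Fin 4) q = 2 ∨ chevF4.cartan (0 : Fin 4) q = -2))

instance : Decidable Chk1 := by
  unfold Chk1
  refine @Nat.decidableBallLT _ _ fun q _ => ?_
  infer_instance

theorem tab1 : Chk1 := by decide +kernel

theorem tabC : ChkC chevF4 rL (0 : Fin 4) := by decide +kernel

theorem tabK : TabK chevF4 4 [3, 2] rL jL 0 := ⟨tab0, tab1, tabC⟩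

/-- the longest element -/
theorem tabW : ∀ i : Fin 4, fr chevF4 wF (chevF4.simple i) = chevF4.neg (chevF4.simple i) := by decide +kernel

/-- the family of homomorphisms -/
theorem exists_fam : ∃ φ : ∀ (L : Type u) [Field L], SpecialLinearGroup (Fin 3) L →* ↥(chevF4.group L),
    ∀ (L : Type u) [Field L] a b (hab : a ≠ b) c, φ L (SpecialLinearGroup.transvection hab c) =
      xc hF (vec chevF4 4 (rL a b)) (((1 : ℤ) : L) * c) := by
  have h : ∀ (L : Type u) [Field L], ∃ φ : SpecialLinearGroup (Fin 3) L →* ↥(chevF4.group L),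
      ∀ a b (hab : a ≠ b) c, φ (SpecialLinearGroup.transvection hab c) =
        xc hF (vec chevF4 4 (rL a b)) (((1 : ℤ) : L) * c) := fun L _ =>
    exists_hom_D hF (K := L) (ε := 1) (by norm_num) rtL.1 rtL.2.1 rtL.2.2.1 rtL.2.2.2
  exact ⟨fun L _ => (h L).choose, fun L _ => (h L).choose_spec⟩

/-- **The row `F₄(q)`, `q ≥ 4`, of the Ore conjecture**, from the product lemma. -/
theorem allC_F4' {K : Type u} [Field K] [Finite K] (hK : 4 ≤ Nat.card K) (hM : M3 K) : AllC ↥(chevF4.group K) := by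
  obtain ⟨t, ht⟩ := exists_t hK
  obtain ⟨φ, hφ⟩ := exists_fam.{u}
  exact (exists_row hF tabL tabK tabW (by norm_num) hφ t ht).allC hF tabL hM (by norm_num)
    (Cfsg.Agent.S1054.result chevF4 (by simp)).1 Cfsg.Agent.Nodes.ChevChart.irrF

/-- **The row `F₄(q)`, `q ≥ 4`, of the products of four involutions**, from the product lemma. -/
theorem inv4_F4' {K : Type u} [Field K] [Finite K] (hK : 4 ≤ Nat.card K) (hM : M3 K) : Inv4 ↥(chevF4.group K) := by
  obtain ⟨t, ht⟩ := exists_t hK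
  obtain ⟨φ, hφ⟩ := exists_fam.{u}
  exact (exists_row hF tabL tabK tabW (by norm_num) hφ t ht).inv4 hF tabL hM (by norm_num)
    (Cfsg.Agent.S1054.result chevF4 (by simp)).1 Cfsg.Agent.Nodes.ChevChart.irrF

end Cfsg.Agent.H144.OreF4
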