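import Cfsg.Agent.H144.OreF4.Lin
import Cfsg.Agent.H482.Ore.Block
import Cfsg.Agent.H335.Sr.Chev
import Cfsg.Agent.H335.Sr.Symm
import Cfsg.Agent.H85.Ore.Blk

/-!
# The rows with one block of type `A_2` and an element `s₀` of the torus (S2443, S4171)

`c₁ = s₀ φ(X)`, `c₂ = s₀⁻¹ φ(Y)`; `X`, `Y` with irreducible characteristic polynomials.

* `Six` : the weights of the natural module of `SL₃` and its dual;
* `nf3` : no fixed points of `s₀ φ(X)` outside `J`;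
* `gl3` : conjugation by `GL₃` commuting with `s₀`;
* `R3` : the data of a row; `R3.allC`, `R3.inv4`.
-/

set_option autoImplicit false
set_option linter.unusedSectionVars false

namespace Cfsg.Agent.H144.OreF4

open CoxeterSystem Cfsg.Agent.ChevalleyStructure.CoxeterGeom Cfsg.Agent.Tits.Roots Cfsg.Agent.Tits.Core
  Cfsg.Agent.Nodes.Reps Cfsg.Agent.Nodes.BNOf Cfsg.Agent.Nodes.RGDLib Cfsg.Agent.Nodes.Bruhat
  Cfsg.Agent.Nodes.OppDec Cfsg.Agent.Nodes.LeviDec Cfsg.Agent.Nodes.KindChev Cfsg.Agent.Nodes.ChevCls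
  Cfsg.Agent.OddHalf.NI.ModelChev
  Cfsg.Agent.H162.GaussDec Cfsg.Agent.H162.GaussLevi Cfsg.Agent.H162.GaussSL Cfsg.Agent.H162.GaussReg
  Cfsg.Agent.H162.GaussMain Cfsg.Agent.H162.GaussPQ Cfsg.Agent.H162.GaussExc
open Cfsg.Lie Cfsg.Agent.ChevalleyStructure Cfsg.Agent.ChevalleyStructure.Elts
  Cfsg.Agent.ChevalleyStructure.RootVec Cfsg.Agent.ChevalleyStructure.NPerm
  Cfsg.Agent.ChevalleyStructure.CoxeterGeomTypes Cfsg.Agent.Nodes.RGDChev Cfsg.Agent.KFacts.RgdChevCoord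
open Cfsg.Agent.H928.Ore.Frame Cfsg.Agent.H482.Ore.Fix Cfsg.Agent.H777.Ore Matrix

universe u

/-- the weights of the natural module of `SL₃` and of its dual -/
def Six (c₀ c₁ : ℤ) : Prop :=
  (c₀ = 1 ∧ c₁ = 0) ∨ (c₀ = -1 ∧ c₁ = 1) ∨ (c₀ = 0 ∧ c₁ = -1) ∨ (c₀ = -1 ∧ c₁ = 0) ∨ (c₀ = 1 ∧ c₁ = -1) ∨
    (c₀ = 0 ∧ c₁ = 1)

instance (c₀ c₁ : ℤ) : Decidable (Six c₀ c₁) := by unfold Six; infer_instance

theorem Six.prod {L : Type*} [Field L] {lam : Fin 3 → L} (hl : ∏ b, lam b = 1) {c₀ c₁ : ℤ} (h : Six c₀ c₁) :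
    ∃ b, lam 0 ^ (c₀ + c₁) * lam 1 ^ c₁ = lam b ∨ lam 0 ^ (c₀ + c₁) * lam 1 ^ c₁ = (lam b)⁻¹ := by
  rw [Fin.prod_univ_three] at hl
  have h2 : lam 2 ≠ 0 := right_ne_zero_of_mul_eq_one hl
  have h01 : lam 0 * lam 1 ≠ 0 := left_ne_zero_of_mul_eq_one hl
  have h0 : lam 0 ≠ 0 := left_ne_zero_of_mul h01
  have h1 : lam 1 ≠ 0 := right_ne_zero_of_mul h01
  rcases h with ⟨rfl, rfl⟩ | ⟨rfl, rfl⟩ | ⟨rfl, rfl⟩ | ⟨rfl, rfl⟩ | ⟨rfl, rfl⟩ | ⟨rfl, rfl⟩
  · exact ⟨0, Or.inl (by simp)⟩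
  · exact ⟨1, Or.inl (by simp)⟩
  · refine ⟨2, Or.inl ?_⟩
    rw [zero_add, _root_.zpow_neg_one, _root_.zpow_neg_one, ← mul_inv]
    exact inv_eq_of_mul_eq_one_right hl
  · exact ⟨0, Or.inr (by simp)⟩
  · exact ⟨1, Or.inr (by simp)⟩
  · refine ⟨2, Or.inr ?_⟩
    rw [zero_add, zpow_one, zpow_one]
    exact eq_inv_of_mul_eq_one_left hl

variable {D : ChevalleyDatum} {l : ℕ} {M : CoxeterMatrix (Fin l)} (hp : IsType D l M) {K : Type u} [Field K]

/-- root elements commute if the commutator relation is trivial -/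
theorem comm_xc {q s : ℕ} (hq : q < D.nroots) (hs : s < D.nroots) (h1 : s ≠ q) (h2 : s ≠ D.neg q)
    (h3 : D.commTerms q s = []) (a b : K) :
    xc hp (vec D l q) a * xc hp (vec D l s) b = xc hp (vec D l s) b * xc hp (vec D l q) a := by
  have h := comm_xG hp hq hs h1 h2 a b
  have h4 : D.commWord K q s a b = [] := by
    unfold ChevalleyDatum.commWord
    rw [h3]
    rfl
  rw [h4, wordG_nil, commutatorElement_eq_one_iff_mul_comm] at h
  apply Subtype.ext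
  rw [Subgroup.coe_mul, Subgroup.coe_mul, coe_xc hp hq, coe_xc hp hs]
  have h5 : (xG hp.inList s b)⁻¹ * (xG hp.inList q a)⁻¹ = (xG hp.inList q a * xG hp.inList s b)⁻¹ := (_root_.mul_inv_rev _ _).symm
  have h6 : (xG hp.inList q a)⁻¹ * (xG hp.inList s b)⁻¹ = (xG hp.inList s b * xG hp.inList q a)⁻¹ := (_root_.mul_inv_rev _ _).symm
  rw [h5, h6] at h
  exact inv_injective h

/-- the tables of a block of type `A_2` with node `k` for the element of the torus -/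
structure Tab3 (D : ChevalleyDatum) (l : ℕ) (J : List (Fin l)) (e : Fin l → ℤ) (ω : List (Fin l))
    (r : Fin 3 → Fin 3 → ℕ) (j : Fin 2 → Fin l) : Prop where
  tb : TabB D l J e ω 1 r
  simp : SimpB D l 1 r j
  neg : ∀ a b, a ≠ b → r b a = D.neg (r a b)

/-- the data over a field -/
structure R3 {D : ChevalleyDatum} {l : ℕ} {M : CoxeterMatrix (Fin l)} (hp : IsType D l M) (K : Type u) [Field K]
    (J : List (Fin l)) (r : Fin 3 → Fin 3 → ℕ) (j : Fin 2 → Fin l)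
    (φ : ∀ (L : Type u) [Field L], SpecialLinearGroup (Fin 3) L →* ↥(D.group L)) (ε : ℤ) (s₀ : ↥(D.group K)) : Prop where
  hε : ε * ε = 1
  hφ : ∀ (L : Type u) [Field L] a b (hab : a ≠ b) c,
    φ L (SpecialLinearGroup.transvection hab c) = xc hp (vec D l (r a b)) ((ε : L) * c)
  mem : s₀ ∈ TT D K
  triv : ∀ a b, a ≠ b → ch hp (vec D l (r a b)) s₀ = 1
  wts : ∀ q < D.nroots, (∃ k, k ∉ J ∧ vec D l q k ≠ 0) → Six (D.cartan (j 0) q) (D.cartan (j 1) q) ∨
    (D.cartan (j 0) q = 0 ∧ D.cartan (j 1) q = 0 ∧ ch hp (vec D l q) s₀ ≠ 1)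
  swap : ∃ y : ↥(D.group K), y * s₀ * y⁻¹ = s₀⁻¹ ∧ ∀ A, y * φ K A * y⁻¹ = φ K A
  real : ∀ (s : ↥(D.group K)), s = s₀ ∨ s = s₀⁻¹ → ∀ X : SpecialLinearGroup (Fin 3) K, Irreducible X.1.charpoly →
    ∃ u : ↥(D.group K), u * u = 1 ∧ u * (s * φ K X) * u⁻¹ = (s * φ K X)⁻¹

theorem ch_inv {q : ℕ} (hq : q < D.nroots) {t : ↥(D.group K)} (ht : t ∈ TT D K) :
    ch hp (vec D l q) t⁻¹ = (ch hp (vec D l q) t)⁻¹ := by
  have h1 := ch_mul hp hq (inv_mem ht) ht
  rw [inv_mul_cancel] at h1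
  have h2 := map_one (chH hp (K := K) hq)
  change ch hp (vec D l q) (1 : ↥(D.group K)) = 1 at h2
  rw [h2] at h1
  exact eq_inv_of_mul_eq_one_left h1.symm

section

variable {J : List (Fin l)} {e : Fin l → ℤ} {ω : List (Fin l)} {r : Fin 3 → Fin 3 → ℕ} {j : Fin 2 → Fin l}
  {φ : ∀ (L : Type u) [Field L], SpecialLinearGroup (Fin 3) L →* ↥(D.group L)} {ε : ℤ} {s₀ : ↥(D.group K)}
  (T : Tab3 D l J e ω r j) (R : R3 hp K J r j φ ε s₀)

include T R

theorem R3.cm (A : SpecialLinearGroup (Fin 3) K) : s₀ * φ K A = φ K A * s₀ := by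
  have h2 : (MulAut.conj s₀).toMonoidHom.comp (φ K) = φ K := by
    refine hom_ext fun a b hab c => ?_
    change s₀ * φ K _ * s₀⁻¹ = φ K _
    rw [R.hφ, (act hp (T.tb.rlt a b hab) R.mem).2, R.triv a b hab, one_mul]
  have h3 := DFunLike.congr_fun h2 A
  change s₀ * φ K A * s₀⁻¹ = φ K A at h3
  calc s₀ * φ K A = (s₀ * φ K A * s₀⁻¹) * s₀ := by group
    _ = φ K A * s₀ := by rw [h3]

theorem R3.cm' (A : SpecialLinearGroup (Fin 3) K) : s₀⁻¹ * φ K A = φ K A * s₀⁻¹ := by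
  have h1 := R.cm hp T A
  calc s₀⁻¹ * φ K A = s₀⁻¹ * (φ K A * s₀) * s₀⁻¹ := by group
    _ = φ K A * s₀⁻¹ := by rw [← h1]; group

/-- **No fixed points.** -/
theorem R3.nf [Finite K] {X : SpecialLinearGroup (Fin 3) K} (hX : Irreducible X.1.charpoly) {s : ↥(D.group K)}
    (hs : s = s₀ ∨ s = s₀⁻¹) :
    NF (VJ M.toCoxeterSystem hp.isCartan (XX D l K) {k | k ∈ J}) (s * φ K X) ∧
      NF (VNJ M.toCoxeterSystem hp.isCartan (XX D l K) {k | k ∈ J}) (s * φ K X) := by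
  obtain ⟨K', hK', hfin, f, lam, g, hlam, hg⟩ := exists_ext hX
  obtain ⟨p, hpc⟩ := CharP.exists K'
  have : Fact p.Prime := ⟨(CharP.char_is_prime_or_zero K' p).resolve_right (CharP.char_ne_zero_of_finite K' p)⟩
  have B : Bk hp f {k | k ∈ J} 1 r j (φ K) (φ K') (fun _ _ => (ε : K)) := by
    refine ⟨T.simp, T.tb.rlt, T.tb.rJ, R.hφ K, fun a b hab c => ?_, fun a => ?_⟩
    · rw [map_intCast]
      exact R.hφ K' a b hab c
    · rw [← Int.cast_mul, R.hε, Int.cast_one]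
  obtain ⟨hl, -⟩ := B.conj hp hg
  have hmem : s ∈ TT D K := by
    rcases hs with rfl | rfl
    · exact R.mem
    · exact inv_mem R.mem
  have hch : ∀ q < D.nroots, ch hp (vec D l q) s₀ ≠ 1 → ch hp (vec D l q) s ≠ 1 := by
    intro q hq h
    rcases hs with rfl | rfl
    · exact h
    · rw [ch_inv hp hq R.mem]
      exact inv_ne_one.2 h
  refine nf_block hp p B hmem (fun a b hab => ?_) hg fun q hq hk => ?_
  · rcases hs with rfl | rfl
    · exact R.triv a b hab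
    · rw [ch_inv hp (T.tb.rlt a b hab) R.mem, R.triv a b hab, inv_one]
  · have e1 : ∏ b, lam b ^ wt D j q b = lam 0 ^ (D.cartan (j 0) q + D.cartan (j 1) q) * lam 1 ^ D.cartan (j 1) q := by
      rw [Fin.prod_univ_three]
      have w0 : wt D j q 0 = D.cartan (j 0) q + D.cartan (j 1) q := by
        simp [Cfsg.Agent.H482.Ore.Fix.wt, Fin.sum_univ_two]
      have w1 : wt D j q 1 = D.cartan (j 1) q := by
        simp [Cfsg.Agent.H482.Ore.Fix.wt, Fin.sum_univ_two]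
      have w2 : wt D j q 2 = 0 := by
        simp [Cfsg.Agent.H482.Ore.Fix.wt, Fin.sum_univ_two]
      rw [w0, w1, w2, zpow_zero, mul_one]
    rw [e1]
    have hc0 : ch hp (vec D l q) s ≠ 0 := (act hp hq hmem).1
    rcases R.wts q hq hk with h | ⟨h0, h1, h2⟩
    · obtain ⟨b, hb | hb⟩ := h.prod hl
      · rw [hb]
        intro h3
        refine hlam b ((ch hp (vec D l q) s)⁻¹) ?_
        rw [map_inv₀]
        exact eq_inv_of_mul_eq_one_right h3
      · rw [hb]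
        intro h3
        refine hlam b (ch hp (vec D l q) s) ?_
        exact (eq_inv_of_mul_eq_one_left h3).trans (inv_inv _) |>.symm
    · rw [h0, h1, add_zero, zpow_zero, zpow_zero, mul_one, mul_one]
      intro h3
      exact hch q hq h2 (f.injective (by rw [h3, map_one]))

/-- **Conjugation by `GL₃`.** -/
theorem R3.gl (g : GL (Fin 3) K) :
    ∃ y : ↥(D.group K), y * s₀ * y⁻¹ = s₀ ∧ ∀ A, y * φ K A * y⁻¹ = φ K (gc g A) := by
  refine gl_of_dd (R.cm hp T) (fun d => ⟨sg hp e d, ?_, ?_⟩) g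
  · have h1 := congrArg Subtype.val (comm_TT hp (⟨sg hp e d, sg_mem hp e d⟩ : ↥(TT D K)) ⟨s₀, R.mem⟩)
    change sg hp e d * s₀ = s₀ * sg hp e d at h1
    rw [h1]
    group
  · have h1 : (MulAut.conj (sg hp e d)).toMonoidHom.comp (φ K) = (φ K).comp (gcHom (dd 2 d)) := by
      refine hom_ext fun a b hab c => ?_
      change sg hp e d * φ K _ * (sg hp e d)⁻¹ = φ K (gc (dd 2 d) _)
      rw [gc_dd_transvection, R.hφ, R.hφ, act_sg hp e d (T.tb.rlt a b hab), T.tb.he a b hab]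
      congr 1
      by_cases ha : a = 0
      · have hb : b ≠ 0 := fun h => hab (ha.trans h.symm)
        simp [ha, hb]
        ring
      · by_cases hb : b = 0
        · simp [ha, hb]
          ring
        · simp [ha, hb]
    exact fun A => DFunLike.congr_fun h1 A

theorem R3.conj {s : ↥(D.group K)} (hs : s = s₀ ∨ s = s₀⁻¹) {X Y : SpecialLinearGroup (Fin 3) K}
    (hX : Irreducible X.1.charpoly) (h : Y.1.charpoly = X.1.charpoly) :
    ∃ y : ↥(D.group K), y * (s * φ K X) * y⁻¹ = s * φ K Y := by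
  obtain ⟨g, hg⟩ := exists_gc hX h
  obtain ⟨y, hy1, hy2⟩ := R.gl hp T g
  refine ⟨y, ?_⟩
  have hy3 : y * s * y⁻¹ = s := by
    rcases hs with rfl | rfl
    · exact hy1
    · calc y * s₀⁻¹ * y⁻¹ = (y * s₀ * y⁻¹)⁻¹ := by group
        _ = s₀⁻¹ := by rw [hy1]
  calc y * (s * φ K X) * y⁻¹ = (y * s * y⁻¹) * (y * φ K X * y⁻¹) := by group
    _ = s * φ K Y := by rw [hy3, hy2, hg]

/-- the second factor is conjugate to the inverse of the first one -/
theorem R3.isConj {X Y : SpecialLinearGroup (Fin 3) K} (hX : Irreducible X.1.charpoly) (hY : Irreducible Y.1.charpoly)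
    (h : Y.1.charpoly = X.1.charpoly ∨ Y.1.charpoly = (X⁻¹).1.charpoly) :
    ∃ y : ↥(D.group K), s₀⁻¹ * φ K Y = y * (s₀ * φ K X)⁻¹ * y⁻¹ := by
  rcases h with h | h
  · obtain ⟨u, -, hu⟩ := R.real s₀ (Or.inl rfl) X hX
    obtain ⟨n, hn1, hn2⟩ := R.swap
    obtain ⟨y, hy⟩ := R.conj hp T (Or.inr rfl) hX h
    refine ⟨y * n * u⁻¹, ?_⟩
    rw [← hu, ← hy]
    have h1 : n * (s₀ * φ K X) * n⁻¹ = s₀⁻¹ * φ K X := by
      calc n * (s₀ * φ K X) * n⁻¹ = (n * s₀ * n⁻¹) * (n * φ K X * n⁻¹) := by group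
        _ = _ := by rw [hn1, hn2]
    rw [← h1]
    group
  · have hX' : Irreducible (X⁻¹).1.charpoly := h ▸ hY
    obtain ⟨y, hy⟩ := R.conj hp T (Or.inr rfl) hX' h
    refine ⟨y, ?_⟩
    rw [← hy, _root_.mul_inv_rev, ← map_inv, R.cm' hp T]

theorem R3.lp [Finite K] {X Y : SpecialLinearGroup (Fin 3) K} (hX : Irreducible X.1.charpoly)
    (hY : Irreducible Y.1.charpoly) :
    LP M.toCoxeterSystem hp.isCartan (TT D K) (XX D l K) {k | k ∈ J} (s₀ * φ K X) (s₀⁻¹ * φ K Y) where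
  mem₁ := mul_mem (T_le_LJ R.mem) (phi_mem hp T.tb (R.hφ K) X)
  mem₂ := mul_mem (T_le_LJ (inv_mem R.mem)) (phi_mem hp T.tb (R.hφ K) Y)
  fix₁ := (R.nf hp T hX (Or.inl rfl)).2
  fix₂ := (R.nf hp T hY (Or.inr rfl)).1

/-- the products -/
theorem R3.pairs [Finite K] (hM : M3 K) {v : ↥(D.group K)}
    (hv : v ∈ UNJ M.toCoxeterSystem hp.isCartan (XX D l K) {k | k ∈ J})
    {w : ↥(D.group K)} (hw : w ∈ UJ M.toCoxeterSystem hp.isCartan (XX D l K) {k | k ∈ J}) :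
    ∃ X Y : SpecialLinearGroup (Fin 3) K, v * w = s₀ * φ K X * (s₀⁻¹ * φ K Y) ∧ Irreducible X.1.charpoly ∧
      Irreducible Y.1.charpoly ∧ (Y.1.charpoly = X.1.charpoly ∨ Y.1.charpoly = (X⁻¹).1.charpoly) := by
  have hε0 : (ε : K) ≠ 0 := left_ne_zero_of_mul_eq_one (b := (ε : K)) (by rw [← Int.cast_mul, R.hε, Int.cast_one])
  obtain ⟨L, hL, rfl⟩ := Cfsg.Agent.H85.Ore.UNJ_le hp T.tb (s := fun _ _ => (ε : K)) (fun _ _ => hε0) (R.hφ K) hv
  obtain ⟨U, hU, rfl⟩ := Cfsg.Agent.H85.Ore.UJ_le hp T.tb (s := fun _ _ => (ε : K)) (fun _ _ => hε0) (R.hφ K) hw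
  obtain ⟨X, Y, h1, h2, h3, h4⟩ := hM L hL U hU
  refine ⟨X, Y, ?_, h2, h3, h4⟩
  rw [← map_mul, h1, map_mul, R.cm hp T X]
  group

/-- **Every element is a commutator.** -/
theorem R3.allC [Finite K] (hM3 : M3 K) (hl : 0 < l) (hG : IsSimpleGroup ↥(D.group K))
    (hM : ∀ J : Finset (Fin l), J = ∅ ∨ J = Finset.univ ∨ ∃ a ∈ J, ∃ b, b ∉ J ∧ M a b ≠ 2) : AllC ↥(D.group K) := by
  intro g
  obtain ⟨p, hpc⟩ := CharP.exists K
  have : Fact p.Prime := ⟨(CharP.char_is_prime_or_zero K p).resolve_right (CharP.char_ne_zero_of_finite K p)⟩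
  have := finite_W hp M.toCoxeterSystem
  have : Nonempty (Fin l) := ⟨⟨0, hl⟩⟩
  by_cases hg : g ∈ (RGD.B M.toCoxeterSystem hp.isCartan (TT D K) (XX D l K)).normalCore
  · rw [Cfsg.Agent.H85.Ore.one_of_core hp hl hG hg]
    exact isC_one
  · refine comm (rgd (K := K) hp M.toCoxeterSystem p) (G1_eq_top hp _) (coord hp)
      (Cfsg.Agent.Nodes.ChevChart.irr_of hM) (J := {k | k ∈ J}) (fun v hv w hw => ?_) hg
    obtain ⟨X, Y, h1, h2, h3, h4⟩ := R.pairs hp T hM3 hv hw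
    exact ⟨_, _, h1, R.lp hp T h2 h3, R.isConj hp T h2 h3 h4⟩

/-- **Every element is a product of four elements of square one.** -/
theorem R3.inv4 [Finite K] (hM3 : M3 K) (hl : 0 < l) (hG : IsSimpleGroup ↥(D.group K))
    (hM : ∀ J : Finset (Fin l), J = ∅ ∨ J = Finset.univ ∨ ∃ a ∈ J, ∃ b, b ∉ J ∧ M a b ≠ 2) : Inv4 ↥(D.group K) := by
  intro g
  obtain ⟨p, hpc⟩ := CharP.exists K
  have : Fact p.Prime := ⟨(CharP.char_is_prime_or_zero K p).resolve_right (CharP.char_ne_zero_of_finite K p)⟩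
  have := finite_W hp M.toCoxeterSystem
  have : Nonempty (Fin l) := ⟨⟨0, hl⟩⟩
  by_cases hg : g ∈ (RGD.B M.toCoxeterSystem hp.isCartan (TT D K) (XX D l K)).normalCore
  · rw [Cfsg.Agent.H85.Ore.one_of_core hp hl hG hg]
    exact ⟨1, 1, 1, 1, by simp⟩
  · have key : ∀ c u : ↥(D.group K), u * u = 1 → u * c * u⁻¹ = c⁻¹ →
        ∃ a b : ↥(D.group K), a ^ 2 = 1 ∧ b ^ 2 = 1 ∧ c = a * b := by
      intro c u hu hc'
      have h0 : u⁻¹ = u := inv_eq_of_mul_eq_one_left hu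
      rw [h0] at hc'
      refine ⟨u, u * c, by rw [pow_two, hu], ?_, by rw [← mul_assoc, hu, one_mul]⟩
      rw [pow_two]
      calc (u * c) * (u * c) = (u * c * u) * c := by group
        _ = 1 := by rw [hc', inv_mul_cancel]
    obtain ⟨a, b, c, d, h1, h2, h3, h4, h5⟩ := four (rgd (K := K) hp M.toCoxeterSystem p)
      (G1_eq_top hp _) (coord hp) (Cfsg.Agent.Nodes.ChevChart.irr_of hM) (J := {k | k ∈ J}) (fun v hv w hw => by
        obtain ⟨X, Y, h1, h2, h3, h4⟩ := R.pairs hp T hM3 hv hw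
        obtain ⟨u, hu1, hu2⟩ := R.real s₀ (Or.inl rfl) X h2
        obtain ⟨u', hu1', hu2'⟩ := R.real s₀⁻¹ (Or.inr rfl) Y h3
        exact ⟨_, _, h1, R.lp hp T h2 h3, key _ u hu1 hu2, key _ u' hu1' hu2'⟩) hg
    exact ⟨a, b, c, d, by rw [← pow_two, h1], by rw [← pow_two, h2], by rw [← pow_two, h3], by rw [← pow_two, h4], h5⟩

end

/-! ### The longest element -/

theorem rep_neg {ω : List (Fin l)} (h : ∀ i : Fin l, fr D ω (D.simple i) = D.neg (D.simple i)) (x : Fin l → ℤ) :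
    rep M.toCoxeterSystem hp.isCartan (M.toCoxeterSystem.wordProd ω) x = -x := by
  have h1 : (rep M.toCoxeterSystem hp.isCartan (M.toCoxeterSystem.wordProd ω) : Module.End ℤ (Fin l → ℤ)) =
      -LinearMap.id := by
    refine LinearMap.pi_ext' fun i => ?_
    refine LinearMap.ext_ring ?_
    change rep M.toCoxeterSystem hp.isCartan (M.toCoxeterSystem.wordProd ω) (Pi.single i 1) = -(Pi.single i 1)
    have hi := simple_lt hp.inList (lt_rank hp i)
    have h2 : (Pi.single i 1 : Fin l → ℤ) = vec D l (D.simple i) := (vec_simple hp i).symm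
    rw [h2, ← fr_vec hp M.toCoxeterSystem ω hi, h i, vec_neg hp hi]
  exact LinearMap.congr_fun h1 x

/-! ### The rank one subgroups commuting with the block -/

section

open Cfsg.Agent.FixBN.FieldRGD (uu vv dd ww)
open scoped MatrixGroups

/-- the table -/
def ChkC (D : ChevalleyDatum) (r : Fin 3 → Fin 3 → ℕ) (k : ℕ) : Prop :=
  ∀ a b : Fin 3, a ≠ b → (D.simple k ≠ r a b ∧ D.simple k ≠ D.neg (r a b) ∧ D.commTerms (r a b) (D.simple k) = []) ∧
    (D.neg (D.simple k) ≠ r a b ∧ D.neg (D.simple k) ≠ D.neg (r a b) ∧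
      D.commTerms (r a b) (D.neg (D.simple k)) = [])

instance (D : ChevalleyDatum) (r : Fin 3 → Fin 3 → ℕ) (k : ℕ) : Decidable (ChkC D r k) := by
  unfold ChkC; infer_instance

/-- the subgroup of the node `k` commutes with the block -/
theorem comm_sl {r : Fin 3 → Fin 3 → ℕ} {k : Fin l} (hlt : ∀ a b, a ≠ b → r a b < D.nroots) (hC : ChkC D r k) {ε : ℤ}
    {φ : SpecialLinearGroup (Fin 3) K →* ↥(D.group K)}
    (hφ : ∀ a b (hab : a ≠ b) c, φ (SpecialLinearGroup.transvection hab c) =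
      xc hp (vec D l (r a b)) ((ε : K) * c)) (B : SL(2, K)) (A : SpecialLinearGroup (Fin 3) K) :
    sl hp k B * φ A = φ A * sl hp k B := by
  have h0 := simple_lt hp.inList (lt_rank hp k)
  have h0' := neg_lt hp.inList h0
  have h1 : ∀ c : K, ∀ A : SpecialLinearGroup (Fin 3) K,
      xc hp (vec D l (D.simple k)) c * φ A = φ A * xc hp (vec D l (D.simple k)) c := by
    intro c A
    have h2 : (MulAut.conj (xc hp (vec D l (D.simple k)) c)).toMonoidHom.comp φ = φ := by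
      refine hom_ext fun a b hab d => ?_
      change xc hp (vec D l (D.simple k)) c * φ _ * (xc hp (vec D l (D.simple k)) c)⁻¹ = φ _
      rw [hφ]
      obtain ⟨⟨e1, e2, e3⟩, -⟩ := hC a b hab
      have e4 := comm_xc hp (hlt a b hab) h0 e1 e2 e3 ((ε : K) * d) c
      exact mul_inv_eq_iff_eq_mul.2 e4.symm
    exact mul_inv_eq_iff_eq_mul.1 (DFunLike.congr_fun h2 A)
  have h1' : ∀ c : K, ∀ A : SpecialLinearGroup (Fin 3) K,
      xc hp (vec D l (D.neg (D.simple k))) c * φ A = φ A * xc hp (vec D l (D.neg (D.simple k))) c := by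
    intro c A
    have h2 : (MulAut.conj (xc hp (vec D l (D.neg (D.simple k))) c)).toMonoidHom.comp φ = φ := by
      refine hom_ext fun a b hab d => ?_
      change xc hp (vec D l (D.neg (D.simple k))) c * φ _ * (xc hp (vec D l (D.neg (D.simple k))) c)⁻¹ = φ _
      rw [hφ]
      obtain ⟨-, e1, e2, e3⟩ := hC a b hab
      have e4 := comm_xc hp (hlt a b hab) h0' e1 e2 e3 ((ε : K) * d) c
      exact mul_inv_eq_iff_eq_mul.2 e4.symm
    exact mul_inv_eq_iff_eq_mul.1 (DFunLike.congr_fun h2 A)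
  have h5 : (sl hp (K := K) k).range ≤ Subgroup.centralizer (Set.range φ) := by
    rw [range_sl]
    refine sup_le ?_ ?_
    · intro y hy
      rw [← vec_simple hp k, mem_XX hp h0] at hy
      obtain ⟨c, rfl⟩ := hy
      rw [Subgroup.mem_centralizer_iff]
      rintro _ ⟨A, rfl⟩
      exact (h1 c A).symm
    · intro y hy
      rw [← vec_simple hp k, ← vec_neg hp h0, mem_XX hp h0'] at hy
      obtain ⟨c, rfl⟩ := hy
      rw [Subgroup.mem_centralizer_iff]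
      rintro _ ⟨A, rfl⟩
      exact (h1' c A).symm
  exact (Subgroup.mem_centralizer_iff.1 (h5 ⟨B, rfl⟩) _ ⟨A, rfl⟩).symm

theorem ww_dd (c : K) (hc : c ≠ 0) :
    (ww (1 : K) one_ne_zero : SL(2, K)) * dd c hc * (ww 1 one_ne_zero)⁻¹ = (dd c hc)⁻¹ := by
  rw [mul_inv_eq_iff_eq_mul, eq_inv_mul_iff_mul_eq]
  apply Subtype.ext
  change !![c, 0; 0, c⁻¹] * (!![0, 1; -(1 : K)⁻¹, 0] * !![c, 0; 0, c⁻¹]) = !![0, 1; -(1 : K)⁻¹, 0]
  rw [Matrix.mul_fin_two, Matrix.mul_fin_two]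
  ext i j
  fin_cases i <;> fin_cases j <;> simp [hc]

end

/-! ### The row with `s₀ = h_k(t)` -/

section

open Cfsg.Agent.FixBN.FieldRGD (uu vv dd ww)
open scoped MatrixGroups

/-- the values of the coroot of the node `k` -/
structure TabK (D : ChevalleyDatum) (l : ℕ) (J : List (Fin l)) (r : Fin 3 → Fin 3 → ℕ) (j : Fin 2 → Fin l)
    (k : Fin l) : Prop where
  z : ∀ a b : Fin 3, a ≠ b → D.cartan k (r a b) = 0
  w : ∀ q < D.nroots, (∃ k : Fin l, k ∉ J ∧ vec D l q k ≠ 0) → Six (D.cartan (j 0) q) (D.cartan (j 1) q) ∨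
    (D.cartan (j 0) q = 0 ∧ D.cartan (j 1) q = 0 ∧ (D.cartan k q = 1 ∨ D.cartan k q = -1 ∨
      D.cartan k q = 2 ∨ D.cartan k q = -2))
  c : ChkC D r k

theorem exists_row {J : List (Fin l)} {e : Fin l → ℤ} {ω : List (Fin l)} {r : Fin 3 → Fin 3 → ℕ} {j : Fin 2 → Fin l}
    (T : Tab3 D l J e ω r j) {k : Fin l} (TK : TabK D l J r j k)
    (hW : ∀ i : Fin l, fr D ω (D.simple i) = D.neg (D.simple i))
    {φ : ∀ (L : Type u) [Field L], SpecialLinearGroup (Fin 3) L →* ↥(D.group L)} {ε : ℤ} (hε : ε * ε = 1)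
    (hφ : ∀ (L : Type u) [Field L] a b (hab : a ≠ b) c,
      φ L (SpecialLinearGroup.transvection hab c) = xc hp (vec D l (r a b)) ((ε : L) * c))
    [Finite K] (t : Kˣ) (ht : (t : K) ^ 2 ≠ 1) :
    R3 hp K J r j φ ε (hc hp k (t : K)) := by
  obtain ⟨p, hpc⟩ := CharP.exists K
  have : Fact p.Prime := ⟨(CharP.char_is_prime_or_zero K p).resolve_right (CharP.char_ne_zero_of_finite K p)⟩
  have hN := (rgd (K := K) hp M.toCoxeterSystem p).nsys
  obtain ⟨η, z, Z⟩ := Cfsg.Agent.H335.Sr.exists_ZD_neg hp M.toCoxeterSystem (K := K) hN (rep_neg hp hW)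
  have hεK : (ε : K) * (ε : K) = 1 := by rw [← Int.cast_mul, hε, Int.cast_one]
  have hmem : hc hp k (t : K) ∈ TT D K := hc_mem hp k t.ne_zero
  have htriv : ∀ a b, a ≠ b → ch hp (vec D l (r a b)) (hc hp k (t : K)) = 1 := by
    intro a b hab
    rw [ch_hc hp k t.ne_zero (T.tb.rlt a b hab), TK.z a b hab, zpow_zero]
  have ht0 : (t : K) ≠ 0 := t.ne_zero
  have ht1 : (t : K) ≠ 1 := fun h => ht (by rw [h, one_pow])
  have hcm : ∀ A, hc hp k (t : K) * φ K A = φ K A * hc hp k (t : K) := fun A => by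
    rw [← sl_dd hp k (t : K) ht0]
    exact comm_sl hp T.tb.rlt TK.c (hφ K) _ A
  refine ⟨hε, hφ, hmem, htriv, fun q hq hk => ?_, ⟨sl hp k (ww 1 one_ne_zero), ?_, ?_⟩, ?_⟩
  · rcases TK.w q hq hk with h | ⟨h1, h2, h3⟩
    · exact Or.inl h
    · refine Or.inr ⟨h1, h2, ?_⟩
      rw [ch_hc hp k t.ne_zero hq]
      rcases h3 with h3 | h3 | h3 | h3 <;> rw [h3]
      · rwa [zpow_one]
      · rw [_root_.zpow_neg_one]
        exact inv_ne_one.2 ht1
      · exact_mod_cast ht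
      · rw [_root_.zpow_neg]
        refine inv_ne_one.2 ?_
        exact_mod_cast ht
  · rw [← sl_dd hp k (t : K) ht0, ← map_inv, ← map_mul, ← map_mul, ww_dd, map_inv]
  · intro A
    rw [comm_sl hp T.tb.rlt TK.c (hφ K)]
    group
  · intro s hs X hX
    have hmem' : s ∈ TT D K := by
      rcases hs with rfl | rfl
      · exact hmem
      · exact inv_mem hmem
    have hcm' : ∀ A, s * φ K A = φ K A * s := by
      intro A
      rcases hs with rfl | rfl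
      · exact hcm A
      · have h1 := hcm A
        calc (hc hp k (t : K))⁻¹ * φ K A = (hc hp k (t : K))⁻¹ * (φ K A * hc hp k (t : K)) * (hc hp k (t : K))⁻¹ := by
              group
          _ = φ K A * (hc hp k (t : K))⁻¹ := by rw [← h1]; group
    obtain ⟨S, h1, h2⟩ := Z.inv_block (s := fun _ _ => (ε : K)) T.tb.rlt T.neg (fun a b _ => rep_neg hp hW _)
      (fun _ _ _ => hεK) (hφ K) (fun _ => rfl) hmem' (fun _ => rfl) hcm' (X := X)
      (fun δ _ => Cfsg.Agent.H335.Sr.exists_symm X.1 hX δ)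
    exact ⟨_, h1, h2⟩

end

/-- a unit `t` with `t² ≠ 1` -/
theorem exists_t {K : Type u} [Field K] [Finite K] (hK : 4 ≤ Nat.card K) : ∃ t : Kˣ, (t : K) ^ 2 ≠ 1 := by
  classical
  have := Fintype.ofFinite K
  obtain ⟨t, ht⟩ := IsCyclic.exists_ofOrder_eq_natCard (α := Kˣ)
  refine ⟨t, fun h => ?_⟩
  have h2 : Nat.card Kˣ = Nat.card K - 1 := by
    rw [Nat.card_eq_fintype_card, Fintype.card_units, Nat.card_eq_fintype_card]
  have h3 : orderOf t ≤ 2 := orderOf_le_of_pow_eq_one (by norm_num) (Units.ext (by rw [Units.val_pow_eq_pow_val, h]; rfl))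
  rw [ht, h2] at h3
  omega

end Cfsg.Agent.H144.OreF4
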